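/-
helper70 (+ helper20), project ASCHU (S5663: Aschbacher's theorem for subgroups of `GU_n(q)`).
Shared vocabulary (definitions and trivial lemmas only).  Builds on helper99's `AschDefs`.
-/
import Mathlib
import Cfsg.Prelude.Def_GeometricClasses
import Cfsg.Agent.Lib.Helper99.AschDefs
import Cfsg.Agent.Lib.Helper13.Herm

set_option autoImplicit false

namespace Cfsg.Agent.Lib.Helper70.AschU

open Cfsg Cfsg.Geo Cfsg.Agent.Lib.Helper99.Asch
open scoped MatrixGroups Matrix Kronecker

variable {n : ℕ} {F : Type*} [Field F]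

/-- `H` lies in a member of one of the geometric classes of the unitary group `GU_n(q)`. -/
def UGeo [Fintype F] (q : ℕ) (H : Subgroup (GL (Fin n) F)) : Prop :=
  ∃ M : Subgroup (GL (Fin n) F), InUnitaryClass n F q M ∧ H ≤ M

/-- the similarity group of the standard unitary form -/
def Sim (n : ℕ) (F : Type*) [Field F] (q : ℕ) : Subgroup (GL (Fin n) F) :=
  similarityGroup (hermForm n F q)

/-- restricted `NAI`: every subgroup of `H Z` normalised by `H` is scalar or absolutely irreducible -/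
def NAIz (H : Subgroup (GL (Fin n) F)) : Prop :=
  ∀ N : Subgroup (GL (Fin n) F), N ≤ H ⊔ scalars (Fin n) F → Nrm H N →
    N ≤ scalars (Fin n) F ∨ ActsAbsolutelyIrreducibly (matrixSet N)

/-- `x` is a similarity of the standard unitary form with multiplier `c` -/
def HasMult (q : ℕ) (x : GL (Fin n) F) (c : F) : Prop :=
  ∀ u v : Fin n → F, hermForm n F q ((x : Matrix (Fin n) (Fin n) F) *ᵥ u)
    ((x : Matrix (Fin n) (Fin n) F) *ᵥ v) = c * hermForm n F q u v

/-- `σ` is the involutory field automorphism `x ↦ x ^ q` of `F`, `|F| = q²`. -/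
structure UCtx [Fintype F] (σ : F ≃+* F) (q : ℕ) : Prop where
  card : Fintype.card F = q ^ 2
  frob : ∀ x, σ x = x ^ q

theorem UCtx.invol [Fintype F] {σ : F ≃+* F} {q : ℕ} (h : UCtx σ q) (a : F) : σ (σ a) = a := by
  rw [h.frob, h.frob, ← pow_mul, ← sq, ← h.card, FiniteField.pow_card]

theorem exists_uctx [Fintype F] {q : ℕ} (hF : Fintype.card F = q ^ 2) : ∃ σ : F ≃+* F, UCtx σ q := by
  obtain ⟨σ, hσ, hσ2⟩ := Cfsg.Agent.Lib.Helper13.exists_frob hF
  exact ⟨RingEquiv.ofRingHom σ σ (RingHom.ext hσ2) (RingHom.ext hσ2), hF, hσ⟩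

/-- the fixed field of `σ` as a subfield -/
def fixedSubfield (σ : F ≃+* F) : Subfield F where
  carrier := {x | σ x = x}
  mul_mem' := by intro a b ha hb; simp only [Set.mem_ofPred_eq] at *; rw [map_mul, ha, hb]
  one_mem' := map_one σ
  add_mem' := by intro a b ha hb; simp only [Set.mem_ofPred_eq] at *; rw [map_add, ha, hb]
  zero_mem' := map_zero σ
  neg_mem' := by intro a ha; simp only [Set.mem_ofPred_eq] at *; rw [map_neg, ha]
  inv_mem' := by intro a ha; simp only [Set.mem_ofPred_eq] at *; rw [map_inv₀, ha]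

theorem mem_fixedSubfield {σ : F ≃+* F} {x : F} : x ∈ fixedSubfield σ ↔ σ x = x := Iff.rfl

theorem mem_GU_iff {q : ℕ} {g : GL (Fin n) F} :
    g ∈ GU n F q ↔ ∀ u v : Fin n → F, hermForm n F q ((g : Matrix (Fin n) (Fin n) F) *ᵥ u)
      ((g : Matrix (Fin n) (Fin n) F) *ᵥ v) = hermForm n F q u v := Iff.rfl

theorem hasMult_one_of_mem_GU {q : ℕ} {g : GL (Fin n) F} (hg : g ∈ GU n F q) : HasMult q g 1 := by
  intro u v
  rw [one_mul]
  exact hg u v

theorem mem_Sim_iff {q : ℕ} {g : GL (Fin n) F} :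
    g ∈ Sim n F q ↔ ∃ c : Fˣ, HasMult q g (c : F) := Iff.rfl

theorem GU_le_Sim {q : ℕ} : GU n F q ≤ Sim n F q := fun g hg =>
  ⟨1, fun u v => by rw [Units.val_one, one_mul]; exact hg u v⟩

theorem NAIz_of_NAI {H : Subgroup (GL (Fin n) F)} (h : NAI H) : NAIz H := fun N _ hN => h N hN

end Cfsg.Agent.Lib.Helper70.AschU
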