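/-
helper70, project ASCHU (S5663): refined class predicate (definitions + forgetful lemma), after helper99's `AschDefsR`.
`InUnitaryClassR` is `Cfsg.Geo.InUnitaryClass` with the class-6 disjunct carrying the extra information `n = r ^ k`
(`k` the exponent in `|R| = r^(1+2k)` resp. `2^(2+2k)`), needed by the SU rows (S5778 …) where `|R|` is prescribed.
-/
import Mathlib
import Cfsg.Prelude.Def_GeometricClasses
import Cfsg.Agent.Lib.Helper99.AschDefs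
import Cfsg.Agent.Lib.Helper70.AschU.Defs

set_option autoImplicit false

namespace Cfsg.Agent.Lib.Helper70.AschU

open Cfsg Cfsg.Geo Cfsg.Agent.Lib.Helper99.Asch
open scoped MatrixGroups Matrix Kronecker

/-- the class-6 disjunct of `InUnitaryPartialClass` -/
def IsC6 (n : ℕ) (F : Type*) [Field F] [Fintype F] (q : ℕ) (M : Subgroup (GL (Fin n) F)) : Prop :=
  ∃ (r : ℕ) (R : Subgroup (GL (Fin n) F)) (p e k : ℕ), IsSymplecticTypeGroup r R ∧
      ActsAbsolutelyIrreducibly (matrixSet R) ∧ R ≤ similarityGroup (hermForm n F q) ∧ r ≠ p ∧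
      IsMinimalFieldFor (Nat.card (Subgroup.center R)) p e F ∧
      ((Odd r ∧ Nat.card (Subgroup.center R) = r ∧ 1 ≤ k ∧ Nat.card R = r ^ (1 + 2 * k)) ∨
       (r = 2 ∧ e = 2 ∧ Nat.card (Subgroup.center R) = 4 ∧ Nat.card R = 2 ^ (2 + 2 * k))) ∧
      M = subgroupNormalizer R ⊓ GU n F q

/-- the class-6 disjunct with the link `n = r ^ k` -/
def IsC6R (n : ℕ) (F : Type*) [Field F] [Fintype F] (q : ℕ) (M : Subgroup (GL (Fin n) F)) : Prop :=
  ∃ (r : ℕ) (R : Subgroup (GL (Fin n) F)) (p e k : ℕ), IsSymplecticTypeGroup r R ∧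
      ActsAbsolutelyIrreducibly (matrixSet R) ∧ R ≤ similarityGroup (hermForm n F q) ∧ r ≠ p ∧
      IsMinimalFieldFor (Nat.card (Subgroup.center R)) p e F ∧
      ((Odd r ∧ Nat.card (Subgroup.center R) = r ∧ 1 ≤ k ∧ Nat.card R = r ^ (1 + 2 * k)) ∨
       (r = 2 ∧ e = 2 ∧ Nat.card (Subgroup.center R) = 4 ∧ Nat.card R = 2 ^ (2 + 2 * k))) ∧
      n = r ^ k ∧ M = subgroupNormalizer R ⊓ GU n F q

theorem IsC6R.isC6 {n : ℕ} {F : Type*} [Field F] [Fintype F] {q : ℕ} {M : Subgroup (GL (Fin n) F)}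
    (h : IsC6R n F q M) : IsC6 n F q M := by
  obtain ⟨r, R, p, e, k, h1, h2, h3, h4, h5, h6, -, h8⟩ := h
  exact ⟨r, R, p, e, k, h1, h2, h3, h4, h5, h6, h8⟩

/-- the members of `InUnitaryClass` that are not of class 6 -/
def InUnitaryClassNo6 (n : ℕ) (F : Type*) [Field F] [Fintype F] (q : ℕ)
    (M : Subgroup (GL (Fin n) F)) : Prop :=
  let f := hermForm n F q
  let I := GU n F q
  (∃ W : Submodule F (Fin n → F), W ≠ ⊥ ∧ IsTotallySingularFor f W ∧ M = subspaceStabilizer W ⊓ I) ∨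
  (∃ W : Submodule F (Fin n → F), W ≠ ⊥ ∧ IsNondegenerateOn f W ∧ 2 * Module.finrank F W < n ∧
      M = subspaceStabilizer W ⊓ I) ∨
  (∃ (t k : ℕ) (D : Fin t → Submodule F (Fin n → F)), IsNondegenerateMDecomposition f k D ∧
      M = decompositionStabilizer D ⊓ I) ∨
  (∃ (k : ℕ) (D : Fin 2 → Submodule F (Fin n → F)), 2 * k = n ∧ IsMDecomposition k D ∧
      (∀ i, IsTotallySingularFor f (D i)) ∧ M = decompositionStabilizer D ⊓ I) ∨
  (∃ (F₀ : Subfield F) (r : ℕ) (P : GL (Fin n) F), r.Prime ∧ Odd r ∧ Fintype.card F = Nat.card F₀ ^ r ∧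
      IsFormRationalStructure f F₀ 1 P ∧ M = subfieldSubgroup F₀ P ⊓ I) ∨
  (∃ (F₀ : Subfield F) (P : GL (Fin n) F), Odd q ∧ Fintype.card F = Nat.card F₀ ^ 2 ∧
      IsFormRationalStructure f F₀ 1 P ∧ M = subfieldSubgroup F₀ P ⊓ I) ∨
  (∃ (F₀ : Subfield F) (P : GL (Fin n) F) (ζ : F), Even n ∧ Fintype.card F = Nat.card F₀ ^ 2 ∧ ζ ≠ 0 ∧
      ζ + ζ ^ q = 0 ∧ IsFormRationalStructure f F₀ ζ P ∧
      (∀ u : Fin n → F, (∀ i, u i ∈ F₀) → f ((P : Matrix (Fin n) (Fin n) F) *ᵥ u) ((P : Matrix (Fin n) (Fin n) F) *ᵥ u) = 0) ∧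
      M = subfieldSubgroup F₀ P ⊓ I) ∨
  (∃ (r : ℕ) (K : Subalgebra F (Matrix (Fin n) (Fin n) F)), r.Prime ∧ Odd r ∧ IsFieldSubalgebra r K ∧
      IsAdjointClosedFor f K ∧ M = subalgebraNormalizer K ⊓ I) ∨
  (∃ (n₁ n₂ : ℕ) (e : Fin n ≃ Fin n₁ × Fin n₂) (P : GL (Fin n) F)
      (f₁ : (Fin n₁ → F) → (Fin n₁ → F) → F) (f₂ : (Fin n₂ → F) → (Fin n₂ → F) → F),
      2 ≤ n₁ ∧ n₁ < n₂ ∧ IsUnitaryFormPow q f₁ ∧ IsUnitaryFormPow q f₂ ∧
      IsTensorFormStructure (fun x : F => x ^ q) f f₁ f₂ e P ∧ M = tensorProductSubgroup n₁ n₂ e P ⊓ I) ∨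
  (∃ (k t : ℕ) (e : Fin n ≃ (Fin t → Fin k)) (P : GL (Fin n) F) (f₁ : (Fin k → F) → (Fin k → F) → F),
      3 ≤ k ∧ 2 ≤ t ∧ ¬ (q = 2 ∧ k = 3) ∧ IsUnitaryFormPow q f₁ ∧
      IsTensorPowerFormStructure (fun x : F => x ^ q) f f₁ e P ∧ M = tensorWreathSubgroup k t e P ⊓ I)

/-- `Cfsg.Geo.InUnitaryClass` with the class-6 disjunct strengthened by `n = r ^ k`. -/
def InUnitaryClassR (n : ℕ) (F : Type*) [Field F] [Fintype F] (q : ℕ) (M : Subgroup (GL (Fin n) F)) : Prop :=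
  InUnitaryClassNo6 n F q M ∨ IsC6R n F q M

theorem InUnitaryClassNo6.inUnitaryClass {n : ℕ} {F : Type*} [Field F] [Fintype F] {q : ℕ}
    {M : Subgroup (GL (Fin n) F)} (h : InUnitaryClassNo6 n F q M) : InUnitaryClass n F q M := by
  rcases h with h | h | h | h | h | h | h | h | h | h
  · exact Or.inl (Or.inl h)
  · exact Or.inl (Or.inr (Or.inl h))
  · exact Or.inl (Or.inr (Or.inr (Or.inl h)))
  · exact Or.inl (Or.inr (Or.inr (Or.inr (Or.inl h))))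
  · exact Or.inl (Or.inr (Or.inr (Or.inr (Or.inr (Or.inl h)))))
  · exact Or.inl (Or.inr (Or.inr (Or.inr (Or.inr (Or.inr (Or.inl h))))))
  · exact Or.inl (Or.inr (Or.inr (Or.inr (Or.inr (Or.inr (Or.inr (Or.inl h)))))))
  · exact Or.inr (Or.inl h)
  · exact Or.inr (Or.inr (Or.inl h))
  · exact Or.inr (Or.inr (Or.inr h))

theorem IsC6.inUnitaryClass {n : ℕ} {F : Type*} [Field F] [Fintype F] {q : ℕ}
    {M : Subgroup (GL (Fin n) F)} (h : IsC6 n F q M) : InUnitaryClass n F q M :=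
  Or.inl (Or.inr (Or.inr (Or.inr (Or.inr (Or.inr (Or.inr (Or.inr h)))))))

theorem InUnitaryClassR.inUnitaryClass {n : ℕ} {F : Type*} [Field F] [Fintype F] {q : ℕ}
    {M : Subgroup (GL (Fin n) F)} (h : InUnitaryClassR n F q M) : InUnitaryClass n F q M := by
  rcases h with h | h
  · exact h.inUnitaryClass
  · exact h.isC6.inUnitaryClass

/-- every member of `InUnitaryClass` is of class 6 or not -/
theorem inUnitaryClass_cases {n : ℕ} {F : Type*} [Field F] [Fintype F] {q : ℕ}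
    {M : Subgroup (GL (Fin n) F)} (h : InUnitaryClass n F q M) :
    InUnitaryClassNo6 n F q M ∨ IsC6 n F q M := by
  rcases h with (h | h | h | h | h | h | h | h) | h | h | h
  · exact Or.inl (Or.inl h)
  · exact Or.inl (Or.inr (Or.inl h))
  · exact Or.inl (Or.inr (Or.inr (Or.inl h)))
  · exact Or.inl (Or.inr (Or.inr (Or.inr (Or.inl h))))
  · exact Or.inl (Or.inr (Or.inr (Or.inr (Or.inr (Or.inl h)))))
  · exact Or.inl (Or.inr (Or.inr (Or.inr (Or.inr (Or.inr (Or.inl h))))))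
  · exact Or.inl (Or.inr (Or.inr (Or.inr (Or.inr (Or.inr (Or.inr (Or.inl h)))))))
  · exact Or.inr h
  · exact Or.inl (Or.inr (Or.inr (Or.inr (Or.inr (Or.inr (Or.inr (Or.inr (Or.inl h))))))))
  · exact Or.inl (Or.inr (Or.inr (Or.inr (Or.inr (Or.inr (Or.inr (Or.inr (Or.inr (Or.inl h)))))))))
  · exact Or.inl (Or.inr (Or.inr (Or.inr (Or.inr (Or.inr (Or.inr (Or.inr (Or.inr (Or.inr h)))))))))

/-- `H` lies in a member of one of the geometric classes of `GU_n(q)`, refined form -/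
def UGeoR {n : ℕ} {F : Type*} [Field F] [Fintype F] (q : ℕ) (H : Subgroup (GL (Fin n) F)) : Prop :=
  ∃ M : Subgroup (GL (Fin n) F), InUnitaryClassR n F q M ∧ H ≤ M

/-- `H` lies in a member of a class other than 6 -/
def UGeoNo6 {n : ℕ} {F : Type*} [Field F] [Fintype F] (q : ℕ) (H : Subgroup (GL (Fin n) F)) : Prop :=
  ∃ M : Subgroup (GL (Fin n) F), InUnitaryClassNo6 n F q M ∧ H ≤ M

theorem UGeoR.ugeo {n : ℕ} {F : Type*} [Field F] [Fintype F] {q : ℕ} {H : Subgroup (GL (Fin n) F)}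
    (h : UGeoR q H) : UGeo q H := by
  obtain ⟨M, hM, hle⟩ := h
  exact ⟨M, hM.inUnitaryClass, hle⟩

theorem UGeoNo6.ugeoR {n : ℕ} {F : Type*} [Field F] [Fintype F] {q : ℕ} {H : Subgroup (GL (Fin n) F)}
    (h : UGeoNo6 q H) : UGeoR q H := by
  obtain ⟨M, hM, hle⟩ := h
  exact ⟨M, Or.inl hM, hle⟩

theorem UGeoNo6.ugeo {n : ℕ} {F : Type*} [Field F] [Fintype F] {q : ℕ} {H : Subgroup (GL (Fin n) F)}
    (h : UGeoNo6 q H) : UGeo q H := h.ugeoR.ugeo

end Cfsg.Agent.Lib.Helper70.AschU
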