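/-
helper70, project ASCHU (S5663).  Modules ASCHU-[MULT] (the standard unitary form in matrix terms) and
ASCHU-[UNIQ] (uniqueness of semi-invariant forms with multipliers).
-/
import Mathlib
import Cfsg.Prelude.Def_GeometricClasses
import Cfsg.Agent.Lib.Helper99.AschDefs
import Cfsg.Agent.Lib.Helper70.AschU.Defs
import Cfsg.Agent.Lib.Helper37.Asch.FormKit2

set_option autoImplicit false
set_option linter.unusedSectionVars false

namespace Cfsg.Agent.Lib.Helper70.AschU

open Cfsg Cfsg.Geo Cfsg.Agent.Lib.Helper99.Asch Cfsg.Agent.Lib.Helper37.Asch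
open scoped MatrixGroups Matrix Kronecker

section general

variable {ι : Type} [Fintype ι] [DecidableEq ι] {K : Type*} [Field K]

theorem formOf_inj (τ : K ≃+* K) {J J' : Matrix ι ι K}
    (h : ∀ u v, formOf τ J u v = formOf τ J' u v) : J = J' := by
  rw [← gram_formOf τ J, ← gram_formOf τ J']
  have : formOf τ J = formOf τ J' := by
    funext u v
    exact h u v
  rw [this]

theorem map_one_eq (τ : K ≃+* K) : (1 : Matrix ι ι K).map τ = 1 := by
  ext i j
  simp [Matrix.one_apply, apply_ite]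

theorem map_smul_eq (τ : K ≃+* K) (c : K) (M : Matrix ι ι K) : (c • M).map τ = τ c • M.map τ := by
  ext i j
  simp

/-- ASCHU-[UNIQ].  `J⁻¹ J'` commutes with every `σ(s)`, so `σ⁻¹(J⁻¹ J')` is scalar. -/
theorem gram_unique (τ : K ≃+* K) (W : Set (Matrix ι ι K))
    (hcomm : ∀ M : Matrix ι ι K, (∀ s ∈ W, M * s = s * M) → ∃ c : K, M = c • (1 : Matrix ι ι K))
    (J J' : Matrix ι ι K) (hJ : IsUnit J)
    (h : ∀ s ∈ W, ∃ μ : K, μ ≠ 0 ∧ sᵀ * J * s.map τ = μ • J ∧ sᵀ * J' * s.map τ = μ • J') :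
    ∃ c : K, J' = c • J := by
  obtain ⟨Ju, hJu⟩ := hJ
  have hJinv : (↑Ju⁻¹ : Matrix ι ι K) * J = 1 := by rw [← hJu]; exact Ju.inv_mul
  have hJinv' : J * (↑Ju⁻¹ : Matrix ι ι K) = 1 := by rw [← hJu]; exact Ju.mul_inv
  set D : Matrix ι ι K := (↑Ju⁻¹ : Matrix ι ι K) * J' with hD
  -- `D` commutes with `σ(s)`
  have hDc : ∀ s ∈ W, D * s.map τ = s.map τ * D := by
    intro s hs
    obtain ⟨μ, hμ, h1, h2⟩ := h s hs
    -- `sᵀ J = μ J σ(s)⁻¹`; use left inverse `L` of `σ(s)`
    set L : Matrix ι ι K := μ⁻¹ • ((↑Ju⁻¹ : Matrix ι ι K) * sᵀ * J) with hL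
    have hL1 : L * s.map τ = 1 := by
      rw [hL, Matrix.smul_mul, Matrix.mul_assoc, Matrix.mul_assoc, ← Matrix.mul_assoc sᵀ, h1,
        Matrix.mul_smul, hJinv, smul_smul, inv_mul_cancel₀ hμ, one_smul]
    have hL2 : s.map τ * L = 1 := mul_eq_one_comm.mp hL1
    -- `sᵀ J' σ(s) = μ J'` gives `sᵀ J' = μ J' L`
    have e1 : sᵀ * J = μ • (J * L) := by
      calc sᵀ * J = sᵀ * J * (s.map τ * L) := by rw [hL2, Matrix.mul_one]
        _ = (sᵀ * J * s.map τ) * L := by rw [Matrix.mul_assoc, Matrix.mul_assoc, Matrix.mul_assoc]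
        _ = μ • (J * L) := by rw [h1, Matrix.smul_mul]
    have e2 : sᵀ * J' = μ • (J' * L) := by
      calc sᵀ * J' = sᵀ * J' * (s.map τ * L) := by rw [hL2, Matrix.mul_one]
        _ = (sᵀ * J' * s.map τ) * L := by rw [Matrix.mul_assoc, Matrix.mul_assoc, Matrix.mul_assoc]
        _ = μ • (J' * L) := by rw [h2, Matrix.smul_mul]
    -- `L = μ⁻¹ J⁻¹ sᵀ J`, so `L * D`?  compute `D * σ(s)`:
    -- `J' = J D`
    have hJD : J' = J * D := by rw [hD, ← Matrix.mul_assoc, hJinv', Matrix.one_mul]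
    -- from e2: `sᵀ J D = μ J D L`, from e1: `sᵀ J D = μ J L D`
    have e3 : J * (D * L) = J * (L * D) := by
      have a1 : sᵀ * J' = μ • (J * (D * L)) := by rw [e2, hJD, Matrix.mul_assoc]
      have a2 : sᵀ * J' = μ • (J * (L * D)) := by
        rw [hJD, ← Matrix.mul_assoc, e1, Matrix.smul_mul, Matrix.mul_assoc]
      have := a1.symm.trans a2
      have h3 := congrArg (fun M => μ⁻¹ • M) this
      simpa [smul_smul, inv_mul_cancel₀ hμ] using h3
    have e4 : D * L = L * D := by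
      have := congrArg (fun M => (↑Ju⁻¹ : Matrix ι ι K) * M) e3
      rwa [← Matrix.mul_assoc, ← Matrix.mul_assoc _ J, hJinv, Matrix.one_mul, Matrix.one_mul] at this
    calc D * s.map τ = (s.map τ * L) * (D * s.map τ) := by rw [hL2, Matrix.one_mul]
      _ = s.map τ * ((L * D) * s.map τ) := by simp only [Matrix.mul_assoc]
      _ = s.map τ * ((D * L) * s.map τ) := by rw [e4]
      _ = s.map τ * D * (L * s.map τ) := by simp only [Matrix.mul_assoc]
      _ = s.map τ * D := by rw [hL1, Matrix.mul_one]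
  -- apply `τ⁻¹`
  set D' : Matrix ι ι K := D.map τ.symm with hD'
  have hD'c : ∀ s ∈ W, D' * s = s * D' := by
    intro s hs
    have h1 := congrArg (fun M : Matrix ι ι K => M.map τ.symm) (hDc s hs)
    simp only [Matrix.map_mul] at h1
    have h2 : (s.map τ).map τ.symm = s := by
      ext i j
      simp
    rw [h2] at h1
    exact h1
  obtain ⟨c, hc⟩ := hcomm D' hD'c
  refine ⟨τ c, ?_⟩
  have hDτ : D = τ c • (1 : Matrix ι ι K) := by
    have h1 : D = D'.map τ := by
      rw [hD']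
      ext i j
      simp
    rw [h1, hc, map_smul_eq, map_one_eq]
  have hJD : J' = J * D := by rw [hD, ← Matrix.mul_assoc, hJinv', Matrix.one_mul]
  rw [hJD, hDτ, Matrix.mul_smul, Matrix.mul_one]

end general

variable {n : ℕ} {F : Type*} [Field F] [Fintype F] {q : ℕ} {σ : F ≃+* F}

/-! ## ASCHU-[MULT] -/

theorem hermForm_eq_formOf (hσ : UCtx σ q) (u v : Fin n → F) :
    hermForm n F q u v = formOf σ (1 : Matrix (Fin n) (Fin n) F) u v := by
  unfold hermForm formOf
  rw [Matrix.one_mulVec, dotProduct]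
  refine Finset.sum_congr rfl fun i _ => ?_
  rw [hσ.frob]

theorem isSesq_hermForm (hσ : UCtx σ q) : IsSesqForm σ (hermForm n F q) := by
  have : hermForm n F q = formOf σ (1 : Matrix (Fin n) (Fin n) F) := by
    funext u v
    exact hermForm_eq_formOf hσ u v
  rw [this]
  exact isSesq_formOf σ 1

theorem nondegenerate_hermForm (hσ : UCtx σ q) : IsNondegenerateForm (hermForm n F q) := by
  have : hermForm n F q = formOf σ (1 : Matrix (Fin n) (Fin n) F) := by
    funext u v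
    exact hermForm_eq_formOf hσ u v
  rw [this]
  exact nondegenerate_formOf σ isUnit_one

theorem hasMult_iff (hσ : UCtx σ q) (x : GL (Fin n) F) (c : F) :
    HasMult q x c ↔
      (x : Matrix (Fin n) (Fin n) F)ᵀ * (x : Matrix (Fin n) (Fin n) F).map σ = c • (1 : Matrix (Fin n) (Fin n) F) := by
  unfold HasMult
  constructor
  · intro h
    apply formOf_inj σ
    intro u v
    have := h u v
    rw [hermForm_eq_formOf hσ, hermForm_eq_formOf hσ, formOf_mulVec, Matrix.mul_one] at this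
    rw [this, formOf_smul]
  · intro h u v
    rw [hermForm_eq_formOf hσ, hermForm_eq_formOf hσ, formOf_mulVec, Matrix.mul_one, h, formOf_smul]

theorem mem_GU_iff_matrix (hσ : UCtx σ q) (x : GL (Fin n) F) :
    x ∈ GU n F q ↔
      (x : Matrix (Fin n) (Fin n) F)ᵀ * (x : Matrix (Fin n) (Fin n) F).map σ = 1 := by
  rw [← one_smul F (1 : Matrix (Fin n) (Fin n) F), ← hasMult_iff hσ]
  constructor
  · intro h
    exact hasMult_one_of_mem_GU h
  · intro h
    rw [mem_GU_iff]
    intro u v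
    have := h u v
    rwa [one_mul] at this

theorem hasMult_mul {x y : GL (Fin n) F} {c d : F} (hx : HasMult q x c) (hy : HasMult q y d) :
    HasMult q (x * y) (c * d) := by
  intro u v
  rw [Units.val_mul, ← Matrix.mulVec_mulVec, ← Matrix.mulVec_mulVec, hx, hy, mul_assoc]

theorem hasMult_one : HasMult q (1 : GL (Fin n) F) 1 := by
  intro u v
  simp

theorem hasMult_inv {x : GL (Fin n) F} {c : F} (hc : c ≠ 0) (hx : HasMult q x c) :
    HasMult q x⁻¹ c⁻¹ := by
  intro u v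
  have h := hx (((x⁻¹ : GL (Fin n) F) : Matrix (Fin n) (Fin n) F) *ᵥ u)
    (((x⁻¹ : GL (Fin n) F) : Matrix (Fin n) (Fin n) F) *ᵥ v)
  rw [Matrix.mulVec_mulVec, Matrix.mulVec_mulVec, ← Units.val_mul, mul_inv_cancel, Units.val_one,
    Matrix.one_mulVec, Matrix.one_mulVec] at h
  rw [h, ← mul_assoc, inv_mul_cancel₀ hc, one_mul]

theorem HasMult.pow {x : GL (Fin n) F} {c : F} (h : HasMult q x c) (k : ℕ) : HasMult q (x ^ k) (c ^ k) := by
  induction k with
  | zero => simpa using hasMult_one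
  | succ k ih =>
    rw [pow_succ, pow_succ]
    exact hasMult_mul ih h

theorem HasMult.unique (hσ : UCtx σ q) (hn : 0 < n) {x : GL (Fin n) F} {c c' : F} (h : HasMult q x c)
    (h' : HasMult q x c') : c = c' := by
  rw [hasMult_iff hσ] at h h'
  have h1 := h.symm.trans h'
  have h2 := congrFun (congrFun h1 ⟨0, hn⟩) ⟨0, hn⟩
  simpa using h2

theorem hasMult_scalar (hσ : UCtx σ q) {z : GL (Fin n) F} (hz : z ∈ scalars (Fin n) F) :
    ∃ c : F, c ≠ 0 ∧ σ c = c ∧ HasMult q z c := by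
  obtain ⟨a, ha⟩ := (mem_scalars_iff z).1 hz
  refine ⟨(a : F) * σ (a : F), mul_ne_zero a.ne_zero ((map_ne_zero σ).2 a.ne_zero), ?_, ?_⟩
  · rw [map_mul, hσ.invol, mul_comm]
  · rw [hasMult_iff hσ, ha, map_smul_eq, map_one_eq, Matrix.transpose_smul, Matrix.transpose_one,
      Matrix.smul_mul, Matrix.mul_smul, Matrix.one_mul, smul_smul]

/-- elements of `H Z` are similarities whose multiplier is fixed by `σ` -/
theorem exists_hasMult_of_mem_sup (hσ : UCtx σ q) {H : Subgroup (GL (Fin n) F)} (hH : H ≤ GU n F q)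
    {x : GL (Fin n) F} (hx : x ∈ H ⊔ scalars (Fin n) F) :
    ∃ c : F, c ≠ 0 ∧ σ c = c ∧ HasMult q x c := by
  rw [Subgroup.sup_eq_closure] at hx
  induction hx using Subgroup.closure_induction with
  | mem g hg =>
    rcases hg with hg | hg
    · exact ⟨1, one_ne_zero, map_one σ, hasMult_one_of_mem_GU (hH hg)⟩
    · exact hasMult_scalar hσ hg
  | one => exact ⟨1, one_ne_zero, map_one σ, hasMult_one⟩
  | mul g₁ g₂ _ _ h₁ h₂ =>
    obtain ⟨c, hc0, hc, h1⟩ := h₁
    obtain ⟨d, hd0, hd, h2⟩ := h₂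
    exact ⟨c * d, mul_ne_zero hc0 hd0, by rw [map_mul, hc, hd], hasMult_mul h1 h2⟩
  | inv g _ h₁ =>
    obtain ⟨c, hc0, hc, h1⟩ := h₁
    exact ⟨c⁻¹, inv_ne_zero hc0, by rw [map_inv₀, hc], hasMult_inv hc0 h1⟩

theorem sup_scalars_le_Sim (hσ : UCtx σ q) {H : Subgroup (GL (Fin n) F)} (hH : H ≤ GU n F q) :
    H ⊔ scalars (Fin n) F ≤ Sim n F q := by
  intro x hx
  obtain ⟨c, hc0, _, hc⟩ := exists_hasMult_of_mem_sup hσ hH hx
  exact ⟨Units.mk0 c hc0, hc⟩

/-- the standard form is a non-degenerate unitary form in the sense of the class definitions -/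
theorem isUnitaryFormPow_hermForm (hF : Fintype.card F = q ^ 2) (d : ℕ) :
    IsUnitaryFormPow q (hermForm d F q) := by
  obtain ⟨σ, hσ⟩ := exists_uctx hF
  have hs := isSesq_hermForm (n := d) hσ
  refine ⟨hs.add_left, hs.smul_left, ?_, nondegenerate_hermForm hσ⟩
  intro v w
  unfold hermForm
  rw [← hσ.frob, map_sum]
  refine Finset.sum_congr rfl fun i _ => ?_
  rw [map_mul, ← hσ.frob (v i), hσ.invol, hσ.frob (w i), mul_comm]

end Cfsg.Agent.Lib.Helper70.AschU
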