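/-
helper70, project ASCHU (S5663).  Module ASCHU-[C7-U]: the `k`-fold tensor case of Part II(B) with `d ≥ 3` gives class 7.
-/
import Mathlib
import Cfsg.Prelude.Def_GeometricClasses
import Cfsg.Agent.Lib.Helper99.AschDefs
import Cfsg.Agent.Lib.Helper99.AschUtil4
import Cfsg.Agent.Lib.Helper70.AschU.Defs
import Cfsg.Agent.Lib.Helper70.AschU.Form
import Cfsg.Agent.Lib.Helper11.AschUKronFormExact
import Cfsg.Agent.Lib.Helper15.AschSlotNormLib
import Cfsg.Agent.Lib.Helper15.AschUPure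
import Cfsg.Agent.Lib.Helper86.AschUHermOn
import Cfsg.Agent.Lib.Helper7.AschUNo23
import Cfsg.Agent.Lib.Helper11.AschUC7Entry

set_option autoImplicit false
set_option linter.unusedSectionVars false

namespace Cfsg.Agent.Lib.Helper70.AschU

open Cfsg Cfsg.Geo Cfsg.Agent.Lib.Helper99.Asch Cfsg.Agent.Lib.Helper37.Asch
open Cfsg.Agent.Lib.Helper15.AschSlotNorm
open scoped MatrixGroups Matrix Kronecker

section reindex

variable {ι κ : Type} [Fintype ι] [DecidableEq ι] [Fintype κ] [DecidableEq κ] {K : Type*} [Field K]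

theorem reindex_mul' (e : κ ≃ ι) (M M' : Matrix κ κ K) :
    Matrix.reindex e e M * Matrix.reindex e e M' = Matrix.reindex e e (M * M') := by
  simp only [Matrix.reindex_apply]
  rw [Matrix.submatrix_mul_equiv]

theorem reindex_transpose' (e : κ ≃ ι) (M : Matrix κ κ K) :
    (Matrix.reindex e e M)ᵀ = Matrix.reindex e e Mᵀ := by
  ext i j
  simp

theorem reindex_map' (e : κ ≃ ι) (τ : K ≃+* K) (M : Matrix κ κ K) :
    (Matrix.reindex e e M).map τ = Matrix.reindex e e (M.map τ) := by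
  ext i j
  simp

theorem reindex_one' (e : κ ≃ ι) : Matrix.reindex e e (1 : Matrix κ κ K) = 1 := by
  simp only [Matrix.reindex_apply]
  exact Matrix.submatrix_one_equiv e.symm

theorem reindex_smul' (e : κ ≃ ι) (c : K) (M : Matrix κ κ K) :
    Matrix.reindex e e (c • M) = c • Matrix.reindex e e M := by
  ext i j
  simp

theorem reindex_add' (e : κ ≃ ι) (M M' : Matrix κ κ K) :
    Matrix.reindex e e (M + M') = Matrix.reindex e e M + Matrix.reindex e e M' := by
  ext i j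
  simp

end reindex

variable {n : ℕ} {F : Type*} [Field F] [Fintype F] {q : ℕ} {σ : F ≃+* F}

theorem uctx_ne_refl' (hσ : UCtx σ q) : σ ≠ RingEquiv.refl F := by
  classical
  intro h
  have hall : ∀ x : F, x ^ q = x := by
    intro x
    rw [← hσ.frob, h]
    rfl
  obtain ⟨g, hg⟩ := IsCyclic.exists_generator (α := Fˣ)
  have hord : orderOf g = Fintype.card F - 1 := by
    rw [orderOf_eq_card_of_forall_mem_zpowers hg, Nat.card_eq_fintype_card, Fintype.card_units]
  have hq2 : 2 ≤ q := by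
    have hq : 2 ≤ q ^ 2 := by
      rw [← hσ.card]
      exact Fintype.one_lt_card
    by_contra hlt
    have : q = 0 ∨ q = 1 := by omega
    rcases this with rfl | rfl <;> simp at hq
  have h1 : g ^ (q - 1) = 1 := by
    apply Units.ext
    have h2 := hall (g : F)
    have h3 : (g : F) ^ (q - 1) * (g : F) = (g : F) := by
      rw [← pow_succ, Nat.sub_add_cancel (by omega), h2]
    have h4 : (g : F) ^ (q - 1) = 1 := by
      have hg0 : (g : F) ≠ 0 := g.ne_zero
      field_simp at h3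
      exact h3
    simpa using h4
  have h5 := orderOf_dvd_of_pow_eq_one h1
  rw [hord, hσ.card] at h5
  have h6 := Nat.le_of_dvd (by omega) h5
  nlinarith [Nat.sub_add_cancel (show 1 ≤ q ^ 2 by nlinarith), Nat.sub_add_cancel (show 1 ≤ q by omega)]

/-- the Gram matrix of the standard form in the coordinates `B` (columns of `B⁻¹` = new basis) -/
def gramIn (σ : F ≃+* F) (B : GL (Fin n) F) : Matrix (Fin n) (Fin n) F :=
  ((B⁻¹ : GL (Fin n) F) : Matrix (Fin n) (Fin n) F)ᵀ * ((B⁻¹ : GL (Fin n) F) : Matrix (Fin n) (Fin n) F).map σ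

theorem map_val_mul_map_inv (σ : F ≃+* F) (B : GL (Fin n) F) :
    (B : Matrix (Fin n) (Fin n) F).map σ * ((B⁻¹ : GL (Fin n) F) : Matrix (Fin n) (Fin n) F).map σ = 1 := by
  have := map_mul_map_inv σ B⁻¹
  rwa [inv_inv] at this

theorem isUnit_gramIn (σ : F ≃+* F) (B : GL (Fin n) F) : IsUnit (gramIn σ B) := by
  unfold gramIn
  refine IsUnit.mul ?_ ?_
  · rw [Matrix.isUnit_transpose]
    exact (B⁻¹).isUnit
  · exact ⟨⟨_, (B : Matrix (Fin n) (Fin n) F).map σ, map_mul_map_inv σ B, map_val_mul_map_inv σ B⟩, rfl⟩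

/-- an isometry of the standard form, in the coordinates `B`, is an isometry of `gramIn σ B` -/
theorem gramIn_conj (σ : F ≃+* F) (B x : GL (Fin n) F)
    (hx : (x : Matrix (Fin n) (Fin n) F)ᵀ * (x : Matrix (Fin n) (Fin n) F).map σ = 1) :
    ((B * x * B⁻¹ : GL (Fin n) F) : Matrix (Fin n) (Fin n) F)ᵀ * gramIn σ B *
      ((B * x * B⁻¹ : GL (Fin n) F) : Matrix (Fin n) (Fin n) F).map σ = gramIn σ B := by
  unfold gramIn
  have h1 : (B : Matrix (Fin n) (Fin n) F)ᵀ * ((B⁻¹ : GL (Fin n) F) : Matrix (Fin n) (Fin n) F)ᵀ = 1 := by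
    rw [← Matrix.transpose_mul, ← Units.val_mul, inv_mul_cancel, Units.val_one, Matrix.transpose_one]
  have h2 := map_mul_map_inv σ B
  simp only [Units.val_mul, Matrix.transpose_mul, Matrix.map_mul]
  calc ((B⁻¹ : GL (Fin n) F) : Matrix (Fin n) (Fin n) F)ᵀ * ((x : Matrix (Fin n) (Fin n) F)ᵀ *
        (B : Matrix (Fin n) (Fin n) F)ᵀ) * (((B⁻¹ : GL (Fin n) F) : Matrix (Fin n) (Fin n) F)ᵀ *
        ((B⁻¹ : GL (Fin n) F) : Matrix (Fin n) (Fin n) F).map σ) *
        ((B : Matrix (Fin n) (Fin n) F).map σ * (x : Matrix (Fin n) (Fin n) F).map σ *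
        ((B⁻¹ : GL (Fin n) F) : Matrix (Fin n) (Fin n) F).map σ)
      = ((B⁻¹ : GL (Fin n) F) : Matrix (Fin n) (Fin n) F)ᵀ * (x : Matrix (Fin n) (Fin n) F)ᵀ *
        ((B : Matrix (Fin n) (Fin n) F)ᵀ * ((B⁻¹ : GL (Fin n) F) : Matrix (Fin n) (Fin n) F)ᵀ) *
        (((B⁻¹ : GL (Fin n) F) : Matrix (Fin n) (Fin n) F).map σ * (B : Matrix (Fin n) (Fin n) F).map σ) *
        (x : Matrix (Fin n) (Fin n) F).map σ *
        ((B⁻¹ : GL (Fin n) F) : Matrix (Fin n) (Fin n) F).map σ := by simp only [Matrix.mul_assoc]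
    _ = ((B⁻¹ : GL (Fin n) F) : Matrix (Fin n) (Fin n) F)ᵀ * ((x : Matrix (Fin n) (Fin n) F)ᵀ *
        (x : Matrix (Fin n) (Fin n) F).map σ) *
        ((B⁻¹ : GL (Fin n) F) : Matrix (Fin n) (Fin n) F).map σ := by
      rw [h1, h2]; simp only [Matrix.mul_one, Matrix.mul_assoc]
    _ = _ := by rw [hx, Matrix.mul_one]

/-- the matrices acting on slot `i` -/
def slotSet {k d : ℕ} (Q : Fin k → Subgroup (GL (Fin n) F)) (idx : Fin n ≃ (Fin k → Fin d)) (B : GL (Fin n) F)
    (i : Fin k) : Set (Matrix (Fin d) (Fin d) F) :=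
  {a | IsUnit a ∧ ∃ x ∈ Q i, ((B * x * B⁻¹ : GL (Fin n) F) : Matrix (Fin n) (Fin n) F) =
      Matrix.reindex idx.symm idx.symm (slotMatrix i a)}

theorem span_slotSet {k d : ℕ} (hd : 0 < d) (Q : Fin k → Subgroup (GL (Fin n) F))
    (idx : Fin n ≃ (Fin k → Fin d)) (B : GL (Fin n) F)
    (hslot : ∀ i, ∀ x ∈ Q i, ∃ a : GL (Fin d) F,
        ((B * x * B⁻¹ : GL (Fin n) F) : Matrix (Fin n) (Fin n) F) =
          Matrix.reindex idx.symm idx.symm (slotMatrix i (a : Matrix (Fin d) (Fin d) F)))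
    (hspan : ∀ i (a : Matrix (Fin d) (Fin d) F),
        ((B⁻¹ : GL (Fin n) F) : Matrix (Fin n) (Fin n) F) *
          Matrix.reindex idx.symm idx.symm (slotMatrix i a) * (B : Matrix (Fin n) (Fin n) F) ∈
          Submodule.span F (matrixSet (Q i))) (i : Fin k) :
    Submodule.span F (slotSet Q idx B i) = ⊤ := by
  rw [eq_top_iff]
  intro a₀ _
  have key : ∀ Y ∈ Submodule.span F (matrixSet (Q i)), ∃ a ∈ Submodule.span F (slotSet Q idx B i),
      (B : Matrix (Fin n) (Fin n) F) * Y * ((B⁻¹ : GL (Fin n) F) : Matrix (Fin n) (Fin n) F) =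
        Matrix.reindex idx.symm idx.symm (slotMatrix i a) := by
    intro Y hY
    induction hY using Submodule.span_induction with
    | mem Y hY =>
      obtain ⟨x, hx, rfl⟩ := hY
      obtain ⟨a, ha⟩ := hslot i x hx
      refine ⟨a, Submodule.subset_span ⟨a.isUnit, x, hx, ha⟩, ?_⟩
      rw [← ha]
      simp only [Units.val_mul]
    | zero =>
      refine ⟨0, Submodule.zero_mem _, ?_⟩
      rw [slot_zero]
      simp
    | add Y Z _ _ hY hZ =>
      obtain ⟨a1, ha1, h1⟩ := hY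
      obtain ⟨a2, ha2, h2⟩ := hZ
      refine ⟨a1 + a2, Submodule.add_mem _ ha1 ha2, ?_⟩
      rw [slot_add, reindex_add', ← h1, ← h2]
      simp only [Matrix.mul_add, Matrix.add_mul]
    | smul c Y _ hY =>
      obtain ⟨a1, ha1, h1⟩ := hY
      refine ⟨c • a1, Submodule.smul_mem _ c ha1, ?_⟩
      rw [slot_smul, reindex_smul', ← h1]
      simp only [Matrix.mul_smul, Matrix.smul_mul]
  obtain ⟨a, ha, hYa⟩ := key _ (hspan i a₀)
  have hBB : (B : Matrix (Fin n) (Fin n) F) * ((B⁻¹ : GL (Fin n) F) : Matrix (Fin n) (Fin n) F) = 1 := by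
    rw [← Units.val_mul, mul_inv_cancel, Units.val_one]
  have e1 : (B : Matrix (Fin n) (Fin n) F) * (((B⁻¹ : GL (Fin n) F) : Matrix (Fin n) (Fin n) F) *
      Matrix.reindex idx.symm idx.symm (slotMatrix i a₀) * (B : Matrix (Fin n) (Fin n) F)) *
      ((B⁻¹ : GL (Fin n) F) : Matrix (Fin n) (Fin n) F) =
      Matrix.reindex idx.symm idx.symm (slotMatrix i a₀) := by
    calc _ = ((B : Matrix (Fin n) (Fin n) F) * ((B⁻¹ : GL (Fin n) F) : Matrix (Fin n) (Fin n) F)) *
      Matrix.reindex idx.symm idx.symm (slotMatrix i a₀) *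
      ((B : Matrix (Fin n) (Fin n) F) * ((B⁻¹ : GL (Fin n) F) : Matrix (Fin n) (Fin n) F)) := by
          simp only [Matrix.mul_assoc]
      _ = _ := by rw [hBB, Matrix.one_mul, Matrix.mul_one]
  rw [e1] at hYa
  have h2 := slot_injective hd i ((Matrix.reindex idx.symm idx.symm).injective hYa)
  rw [h2]
  exact ha

/-- elements of a slot set preserve the transported Gram matrix -/
theorem slotSet_fix {k d : ℕ} (hσ : UCtx σ q) (Q : Fin k → Subgroup (GL (Fin n) F))
    (hQ : ∀ i, Q i ≤ GU n F q) (idx : Fin n ≃ (Fin k → Fin d)) (B : GL (Fin n) F) (i : Fin k)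
    (a : Matrix (Fin d) (Fin d) F) (ha : a ∈ slotSet Q idx B i) :
    (slotMatrix i a)ᵀ * Matrix.reindex idx idx (gramIn σ B) * (slotMatrix i a).map σ =
      Matrix.reindex idx idx (gramIn σ B) := by
  obtain ⟨-, x, hx, hxa⟩ := ha
  have h1 := gramIn_conj σ B x ((mem_GU_iff_matrix hσ x).1 (hQ i hx))
  rw [hxa] at h1
  have hJ : gramIn σ B = Matrix.reindex idx.symm idx.symm (Matrix.reindex idx idx (gramIn σ B)) := by
    ext u v
    simp
  rw [hJ, reindex_transpose', reindex_map', reindex_mul', reindex_mul'] at h1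
  exact (Matrix.reindex idx.symm idx.symm).injective h1

/-- the slot embedding `a ↦ 1 ⊗ … ⊗ a ⊗ … ⊗ 1` as a monoid hom -/
def slotHom {k d : ℕ} (i : Fin k) :
    Matrix (Fin d) (Fin d) F →* Matrix (Fin k → Fin d) (Fin k → Fin d) F where
  toFun := slotMatrix i
  map_one' := slot_one i
  map_mul' := slot_mul i

/-- `g ↦ B⁻¹ (slot_i g) B` as a group hom `GL_d → GL_n` -/
def slotEmb {k d : ℕ} (idx : Fin n ≃ (Fin k → Fin d)) (B : GL (Fin n) F) (i : Fin k) :
    GL (Fin d) F →* GL (Fin n) F :=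
  (MulAut.conj B⁻¹).toMonoidHom.comp
    ((glReindex idx.symm).toMonoidHom.comp (Units.map (slotHom (F := F) (k := k) (d := d) i)))

theorem slotEmb_conj {k d : ℕ} (idx : Fin n ≃ (Fin k → Fin d)) (B : GL (Fin n) F) (i : Fin k) (g : GL (Fin d) F) :
    ((B * slotEmb idx B i g * B⁻¹ : GL (Fin n) F) : Matrix (Fin n) (Fin n) F) =
      Matrix.reindex idx.symm idx.symm (slotMatrix i (g : Matrix (Fin d) (Fin d) F)) := by
  have : B * slotEmb idx B i g * B⁻¹ = glReindex idx.symm (Units.map (slotHom (F := F) (k := k) (d := d) i) g) := by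
    simp only [slotEmb, MonoidHom.comp_apply, MulEquiv.coe_toMonoidHom, MulAut.conj_apply, inv_inv]
    group
  rw [this, Cfsg.Agent.Lib.Helper99.AschUtil.coe_glReindex]
  rfl

theorem slotEmb_injective {k d : ℕ} (hd : 0 < d) (idx : Fin n ≃ (Fin k → Fin d)) (B : GL (Fin n) F) (i : Fin k) :
    Function.Injective (slotEmb idx B i) := by
  intro g g' h
  have h1 := slotEmb_conj idx B i g
  have h2 := slotEmb_conj idx B i g'
  rw [h] at h1
  have h3 := h1.symm.trans h2
  exact Units.ext (slot_injective hd i ((Matrix.reindex idx.symm idx.symm).injective h3))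

/-- a perfect group acting through a slot of dimension 3 over the field with 4 elements, preserving an invertible
hermitian form there, is trivial -/
theorem eq_bot_of_slot_three {k : ℕ} (hσ : UCtx σ 2) (idx : Fin n ≃ (Fin k → Fin 3)) (B : GL (Fin n) F) (i : Fin k)
    (Qi : Subgroup (GL (Fin n) F)) (hperf : ⁅Qi, Qi⁆ = Qi)
    (hslot : ∀ x ∈ Qi, ∃ a : GL (Fin 3) F,
        ((B * x * B⁻¹ : GL (Fin n) F) : Matrix (Fin n) (Fin n) F) =
          Matrix.reindex idx.symm idx.symm (slotMatrix i (a : Matrix (Fin 3) (Fin 3) F)))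
    (G : Matrix (Fin 3) (Fin 3) F) (hG : IsUnit G) (hherm : (G.map σ)ᵀ = G)
    (hfix : ∀ a : GL (Fin 3) F, slotEmb idx B i a ∈ Qi →
      (a : Matrix (Fin 3) (Fin 3) F)ᵀ * G * (a : Matrix (Fin 3) (Fin 3) F).map σ = G) :
    Qi = ⊥ := by
  have hinj := slotEmb_injective (F := F) (by norm_num : 0 < 3) idx B i
  set ψ := slotEmb idx B i with hψ
  have hle : Qi ≤ ψ.range := by
    intro x hx
    obtain ⟨a, ha⟩ := hslot x hx
    refine ⟨a, ?_⟩
    have h1 := slotEmb_conj idx B i a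
    rw [← ha] at h1
    have h2 : B * ψ a * B⁻¹ = B * x * B⁻¹ := Units.ext h1
    have h3 : ψ a = B⁻¹ * (B * ψ a * B⁻¹) * B := by group
    rw [h3, h2]
    group
  set A0 : Subgroup (GL (Fin 3) F) := Qi.comap ψ with hA0
  have hmap : A0.map ψ = Qi := Subgroup.map_comap_eq_self hle
  have hperf0 : ⁅A0, A0⁆ = A0 := by
    apply Subgroup.map_injective hinj
    rw [Subgroup.map_commutator, hmap, hperf]
  obtain ⟨C, hC⟩ := exists_orthonormal hσ G hG hherm
  set A1 : Subgroup (GL (Fin 3) F) := A0.map (MulAut.conj C⁻¹).toMonoidHom with hA1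
  have hperf1 : ⁅A1, A1⁆ = A1 := by
    rw [hA1, ← Subgroup.map_commutator, hperf0]
  -- `G = C⁻ᵀ σ(C)⁻¹`
  have hCinvT : ((C⁻¹ : GL (Fin 3) F) : Matrix (Fin 3) (Fin 3) F)ᵀ * (C : Matrix (Fin 3) (Fin 3) F)ᵀ = 1 := by
    rw [← Matrix.transpose_mul, ← Units.val_mul, mul_inv_cancel, Units.val_one, Matrix.transpose_one]
  have hCσ : (C : Matrix (Fin 3) (Fin 3) F).map σ * ((C⁻¹ : GL (Fin 3) F) : Matrix (Fin 3) (Fin 3) F).map σ = 1 :=
    map_val_mul_map_inv σ C
  have hGC : ((C⁻¹ : GL (Fin 3) F) : Matrix (Fin 3) (Fin 3) F)ᵀ *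
      ((C⁻¹ : GL (Fin 3) F) : Matrix (Fin 3) (Fin 3) F).map σ = G := by
    calc _ = ((C⁻¹ : GL (Fin 3) F) : Matrix (Fin 3) (Fin 3) F)ᵀ * ((C : Matrix (Fin 3) (Fin 3) F)ᵀ * G *
          (C : Matrix (Fin 3) (Fin 3) F).map σ) *
          ((C⁻¹ : GL (Fin 3) F) : Matrix (Fin 3) (Fin 3) F).map σ := by rw [hC, Matrix.mul_one]
      _ = (((C⁻¹ : GL (Fin 3) F) : Matrix (Fin 3) (Fin 3) F)ᵀ * (C : Matrix (Fin 3) (Fin 3) F)ᵀ) * G *
          ((C : Matrix (Fin 3) (Fin 3) F).map σ *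
          ((C⁻¹ : GL (Fin 3) F) : Matrix (Fin 3) (Fin 3) F).map σ) := by simp only [Matrix.mul_assoc]
      _ = G := by rw [hCinvT, hCσ, Matrix.one_mul, Matrix.mul_one]
  have hA1GU : A1 ≤ GU 3 F 2 := by
    rintro _ ⟨g, hg, rfl⟩
    have hgfix := hfix g hg
    rw [mem_GU_iff_matrix hσ]
    simp only [MulEquiv.coe_toMonoidHom, MulAut.conj_apply, inv_inv, Units.val_mul, Matrix.transpose_mul,
      Matrix.map_mul]
    calc (C : Matrix (Fin 3) (Fin 3) F)ᵀ * ((g : Matrix (Fin 3) (Fin 3) F)ᵀ *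
          ((C⁻¹ : GL (Fin 3) F) : Matrix (Fin 3) (Fin 3) F)ᵀ) *
          (((C⁻¹ : GL (Fin 3) F) : Matrix (Fin 3) (Fin 3) F).map σ * (g : Matrix (Fin 3) (Fin 3) F).map σ *
          (C : Matrix (Fin 3) (Fin 3) F).map σ)
        = (C : Matrix (Fin 3) (Fin 3) F)ᵀ * ((g : Matrix (Fin 3) (Fin 3) F)ᵀ *
          (((C⁻¹ : GL (Fin 3) F) : Matrix (Fin 3) (Fin 3) F)ᵀ *
          ((C⁻¹ : GL (Fin 3) F) : Matrix (Fin 3) (Fin 3) F).map σ) * (g : Matrix (Fin 3) (Fin 3) F).map σ) *
          (C : Matrix (Fin 3) (Fin 3) F).map σ := by simp only [Matrix.mul_assoc]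
      _ = 1 := by rw [hGC, hgfix, hC]
  have hA1bot : A1 = ⊥ := perfect_le_GU_three_two hσ.card A1 hA1GU hperf1
  have hA0bot : A0 = ⊥ := by
    rw [hA1] at hA1bot
    exact (Subgroup.map_eq_bot_iff_of_injective A0 (MulAut.conj C⁻¹).injective).1 hA1bot
  rw [← hmap, hA0bot, Subgroup.map_bot]

/-- ASCHU-[C7-U]: the `k`-fold tensor case with `d ≥ 3`. -/
theorem ugeo_of_kfold (hσ : UCtx σ q) (hn : 3 ≤ n) (H P : Subgroup (GL (Fin n) F)) (hH : H ≤ GU n F q) {k : ℕ}
    (hk : 2 ≤ k) (Q : Fin k → Subgroup (GL (Fin n) F)) (hQ : CompSys H P Q) (hPH : P ≤ H)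
    (d : ℕ) (hd : 3 ≤ d) (idx : Fin n ≃ (Fin k → Fin d)) (B : GL (Fin n) F)
    (hslot : ∀ i, ∀ x ∈ Q i, ∃ a : GL (Fin d) F,
        ((B * x * B⁻¹ : GL (Fin n) F) : Matrix (Fin n) (Fin n) F) =
          Matrix.reindex idx.symm idx.symm (slotMatrix i (a : Matrix (Fin d) (Fin d) F)))
    (hspan : ∀ i (a : Matrix (Fin d) (Fin d) F),
        ((B⁻¹ : GL (Fin n) F) : Matrix (Fin n) (Fin n) F) *
          Matrix.reindex idx.symm idx.symm (slotMatrix i a) * (B : Matrix (Fin n) (Fin n) F) ∈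
          Submodule.span F (matrixSet (Q i)))
    (hHB : ∀ h ∈ H, glReindex idx (B * h * B⁻¹) ∈ tensorWreathStandard d k F) : UGeo q H := by
  have hd0 : 0 < d := by omega
  have hQGU : ∀ i, Q i ≤ GU n F q := fun i => ((hQ.le i).trans hPH).trans hH
  set Jk : Matrix (Fin k → Fin d) (Fin k → Fin d) F := Matrix.reindex idx idx (gramIn σ B) with hJk
  have hJku : IsUnit Jk := by
    obtain ⟨u, hu⟩ := isUnit_gramIn σ B
    refine ⟨⟨Jk, Matrix.reindex idx idx (↑u⁻¹ : Matrix (Fin n) (Fin n) F), ?_, ?_⟩, rfl⟩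
    · rw [hJk, reindex_mul', ← hu, Units.mul_inv, reindex_one']
    · rw [hJk, reindex_mul', ← hu, Units.inv_mul, reindex_one']
  have hne : ∃ a, σ a ≠ a := by
    by_contra hcon
    push Not at hcon
    exact uctx_ne_refl' hσ (RingEquiv.ext hcon)
  obtain ⟨G, c, hc, hGu, hGh, hGfix, hJG⟩ := kfold_gram hσ.invol hne hd0 (slotSet Q idx B)
    (span_slotSet hd0 Q idx B hslot hspan) (fun i a ha => ha.1) Jk hJku
    (fun i a ha => slotSet_fix hσ Q hQGU idx B i a ha)
  -- the excluded case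
  have hex : ¬ (q = 2 ∧ d = 3) := by
    rintro ⟨rfl, rfl⟩
    have i0 : Fin k := ⟨0, by omega⟩
    have hbot := eq_bot_of_slot_three hσ idx B i0 (Q i0) (hQ.perfect i0) (hslot i0) (G i0) (hGu i0) (hGh i0)
      (fun a ha => hGfix i0 a ⟨a.isUnit, slotEmb idx B i0 a, ha, slotEmb_conj idx B i0 a⟩)
    apply hQ.not_le i0
    rw [hbot]
    exact bot_le
  -- orthonormalise each slot
  choose C hC using fun i => exists_orthonormal hσ (G i) (hGu i) (hGh i)
  obtain ⟨T, hTmem, -, hTact⟩ := exists_pureTensor C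
  have hT1 : (T : Matrix (Fin k → Fin d) (Fin k → Fin d) F)ᵀ * Jk *
      (T : Matrix (Fin k → Fin d) (Fin k → Fin d) F).map σ = c • 1 := by
    rw [hJG, Matrix.mul_smul, Matrix.smul_mul, hTact σ G]
    congr 1
    ext x y
    simp only [hC, Matrix.of_apply, Matrix.one_apply]
    by_cases hxy : x = y
    · subst hxy
      simp
    · rw [if_neg hxy]
      obtain ⟨j, hj⟩ := Function.ne_iff.mp hxy
      exact Finset.prod_eq_zero (Finset.mem_univ j) (by rw [if_neg hj])
  -- the new coordinates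
  set P' : GL (Fin n) F := B⁻¹ * glReindex idx.symm T with hP'
  have hgram : (P' : Matrix (Fin n) (Fin n) F)ᵀ * (P' : Matrix (Fin n) (Fin n) F).map σ = c • 1 := by
    have hJ : gramIn σ B = Matrix.reindex idx.symm idx.symm Jk := by
      rw [hJk]
      ext u v
      simp
    rw [hP', Units.val_mul, Cfsg.Agent.Lib.Helper99.AschUtil.coe_glReindex, Matrix.transpose_mul,
      Matrix.map_mul, reindex_transpose', reindex_map']
    calc (Matrix.reindex idx.symm idx.symm (T : Matrix (Fin k → Fin d) (Fin k → Fin d) F)ᵀ) *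
          ((B⁻¹ : GL (Fin n) F) : Matrix (Fin n) (Fin n) F)ᵀ *
          (((B⁻¹ : GL (Fin n) F) : Matrix (Fin n) (Fin n) F).map σ *
          Matrix.reindex idx.symm idx.symm ((T : Matrix (Fin k → Fin d) (Fin k → Fin d) F).map σ))
        = (Matrix.reindex idx.symm idx.symm (T : Matrix (Fin k → Fin d) (Fin k → Fin d) F)ᵀ) *
          gramIn σ B *
          Matrix.reindex idx.symm idx.symm ((T : Matrix (Fin k → Fin d) (Fin k → Fin d) F).map σ) := by
            unfold gramIn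
            simp only [Matrix.mul_assoc]
      _ = c • 1 := by
        rw [hJ, reindex_mul', reindex_mul', hT1, reindex_smul', reindex_one']
  have hHP : ∀ h ∈ H, glReindex idx (P'⁻¹ * h * P') ∈ tensorWreathStandard d k F := by
    intro h hh
    have h1 : glReindex idx (glReindex idx.symm T) = T := by
      apply Units.ext
      ext x y
      simp [glReindex]
    have h2 : P'⁻¹ * h * P' = (glReindex idx.symm T)⁻¹ * (B * h * B⁻¹) * glReindex idx.symm T := by
      rw [hP']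
      group
    rw [h2, map_mul, map_mul, map_inv, h1]
    exact Subgroup.mul_mem _ (Subgroup.mul_mem _ (Subgroup.inv_mem _ hTmem) (hHB h hh)) hTmem
  exact ugeo_of_tensorPower hσ H hH d k hd hk hex idx P' c hc hgram hHP

end Cfsg.Agent.Lib.Helper70.AschU
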