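/-
helper70, project ASCHU (S5663).  Module ASCHU-[SYMP-U]: re-export of ASCH-[RODD]/[RTWO] (+ ASCH-[EXPR]) with the
restricted hypothesis `NAIz` and the extra information `R ≤ H Z`.
-/
import Mathlib
import Cfsg.Prelude.Def_GeometricClasses
import Cfsg.Agent.Lib.Helper99.AschDefs
import Cfsg.Agent.Lib.Helper70.AschU.Defs
import Cfsg.Agent.Lib.Helper70.AschRodd
import Cfsg.Agent.Lib.Helper70.AschRtwo
import Cfsg.Agent.Lib.Helper93.AschExpr

set_option autoImplicit false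

namespace Cfsg.Agent.Lib.Helper70.AschU

open Cfsg Cfsg.Geo Cfsg.Agent.Lib.Helper99.Asch Cfsg.Agent.Lib.Helper70.AschSymp
open scoped MatrixGroups Matrix Kronecker

variable {n : ℕ} {F : Type*} [Field F] [Fintype F]

theorem NAIin_of_NAIz {H N : Subgroup (GL (Fin n) F)} (h : NAIz H) (hN : N ≤ H ⊔ scalars (Fin n) F) :
    NAIin H N := fun M hM hnrm => h M (hM.trans hN) hnrm

/-- ASCHU-[SYMP-U] -/
theorem sympOut_of_commScalar (hn : 3 ≤ n) (H N : Subgroup (GL (Fin n) F)) (hNAI : NAIz H)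
    (hN : IsMinNrm H N) (hab : CommScalar N) :
    ∃ (R : Subgroup (GL (Fin n) F)) (r z : ℕ), R ≤ H ⊔ scalars (Fin n) F ∧ SympOut H R r z ∧
      ((Odd r ∧ z = r) ∨ (r = 2 ∧ z = 2) ∨ (r = 2 ∧ z = 4)) := by
  obtain ⟨r, hr, hexp⟩ := exists_prime_exponent (by omega) H N hN hab
  have hin : NAIin H N := NAIin_of_NAIz hNAI hN.le_sup
  rcases hr.eq_two_or_odd' with h2 | hodd
  · subst h2
    obtain ⟨R, hRN, hR⟩ := sympOut_two_in (basisStmt (by omega)) hn H N hin hN hab hexp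
    rcases hR with hR | hR
    · exact ⟨R, 2, 2, hRN.trans hN.le_sup, hR, Or.inr (Or.inl ⟨rfl, rfl⟩)⟩
    · exact ⟨R, 2, 4, hRN.trans hN.le_sup, hR, Or.inr (Or.inr ⟨rfl, rfl⟩)⟩
  · obtain ⟨R, hRN, hR⟩ := sympOut_odd_in (basisStmt (by omega)) hn H N hin hN hab r hr hodd hexp
    exact ⟨R, r, r, hRN.trans hN.le_sup, hR, Or.inl ⟨hodd, rfl⟩⟩

end Cfsg.Agent.Lib.Helper70.AschU
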