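/-
helper70, project ASCHU (S5663).  Module ASCHU-[PARTA-U]: Part II(A), `N / Z` abelian.
-/
import Mathlib
import Cfsg.Prelude.Def_GeometricClasses
import Cfsg.Agent.Lib.Helper99.AschDefs
import Cfsg.Agent.Lib.Helper70.AschU.Defs
import Cfsg.Agent.Lib.Helper70.AschU.Form
import Cfsg.Agent.Lib.Helper70.AschU.Symp
import Cfsg.Agent.Lib.Helper49.AschUC5Bil
import Cfsg.Agent.Lib.Helper30.AschUArithU
import Cfsg.Agent.Lib.Helper30.AschUC6U
import Cfsg.Agent.Lib.Helper93.AschTraces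
import Cfsg.Agent.Lib.Helper83.AschDescent

set_option autoImplicit false

namespace Cfsg.Agent.Lib.Helper70.AschU

open Cfsg Cfsg.Geo Cfsg.Agent.Lib.Helper99.Asch Cfsg.Agent.Lib.Helper37.Asch
open scoped MatrixGroups Matrix Kronecker

variable {n : ℕ} {F : Type*} [Field F] [Fintype F] {q : ℕ} {σ : F ≃+* F}

theorem fixedSubfield_ne_top (hσ : UCtx σ q) : fixedSubfield σ ≠ ⊤ := by
  intro h
  apply Cfsg.Agent.Lib.Helper49.AschUC5.UCtx_ne_refl hσ
  ext a
  have : a ∈ fixedSubfield σ := by rw [h]; trivial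
  exact this

/-- the multiplier of an element of `H Z` of order dividing `m` is an `m`-th root of unity fixed by `σ` -/
theorem exists_hasMult_pow_eq_one (hσ : UCtx σ q) (hn : 0 < n) {H : Subgroup (GL (Fin n) F)} (hH : H ≤ GU n F q)
    {x : GL (Fin n) F} (hx : x ∈ H ⊔ scalars (Fin n) F) {m : ℕ} (hxm : x ^ m = 1) :
    ∃ c : F, c ≠ 0 ∧ σ c = c ∧ c ^ m = 1 ∧ HasMult q x c := by
  obtain ⟨c, hc0, hcσ, hc⟩ := exists_hasMult_of_mem_sup hσ hH hx
  refine ⟨c, hc0, hcσ, ?_, hc⟩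
  have h1 := hc.pow m
  rw [hxm] at h1
  exact HasMult.unique hσ hn h1 hasMult_one

/-- ASCHU-[PARTA-U]. -/
theorem partIIA_U (hσ : UCtx σ q) (hn : 3 ≤ n) (H N : Subgroup (GL (Fin n) F)) (hH : H ≤ GU n F q) (hNAI : NAIz H)
    (hN : IsMinNrm H N) (hab : CommScalar N) : UGeo q H := by
  obtain ⟨R, r, z, hRle, hR, hcase⟩ := sympOut_of_commScalar hn H N hNAI hN hab
  have hexp : ∀ x ∈ R, x ^ (r * Nat.gcd 2 r) = 1 := by
    intro x hx
    have h1 : (⟨x, hx⟩ : R) ^ (Monoid.exponent R) = 1 := Monoid.pow_exponent_eq_one _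
    rw [hR.symplecticType.exponent_eq] at h1
    have h2 := congrArg (fun g : R => (g : GL (Fin n) F)) h1
    simpa using h2
  have route : ∀ F₁ : Subfield F, F₁ ≠ ⊤ → (∀ c : F, c ^ z = 1 → c ∈ F₁) →
      (∀ x ∈ R, ∃ c ∈ F₁, c ≠ 0 ∧ HasMult q x c) → UGeo q H := by
    intro F₁ hF₁ hz hm
    have htr := trace_mem_of_sympOut H R r z hR F₁ hz
    have hreal := realisable_of_trace_mem R hR.absIrred F₁ htr
    exact ugeo_of_realisable hσ (by omega) H R hH hR.absIrred hR.nrm F₁ hF₁ hreal hm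
  rcases hcase with ⟨hodd, rfl⟩ | ⟨rfl, rfl⟩ | ⟨rfl, rfl⟩
  · -- `r` odd
    have hg : Nat.gcd 2 z = 1 := Nat.coprime_two_left.mpr hodd
    rw [hg, mul_one] at hexp
    rcases minimal_or_subfield z hR.dvd with ⟨p, e, hmin⟩ | ⟨F₁, hF₁, hz⟩
    · exact ugeo_of_sympOut_minimal hσ hn H R hH z z hR hRle (Or.inl ⟨hodd, rfl⟩) p e hmin
    · apply route F₁ hF₁ hz
      intro x hx
      obtain ⟨c, hc0, -, hcm, hc⟩ := exists_hasMult_pow_eq_one hσ (by omega) hH (hRle hx) (hexp x hx)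
      exact ⟨c, hz c hcm, hc0, hc⟩
  · -- `r = 2`, `z = 2`
    apply route (fixedSubfield σ) (fixedSubfield_ne_top hσ)
    · intro c hc
      have : (c - 1) * (c + 1) = 0 := by ring_nf; rw [hc]; ring
      rcases mul_eq_zero.mp this with h | h
      · have : c = 1 := by linear_combination h
        rw [this]
        exact (fixedSubfield σ).one_mem
      · have : c = -1 := by linear_combination h
        rw [this]
        exact (fixedSubfield σ).neg_mem (fixedSubfield σ).one_mem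
    · intro x hx
      obtain ⟨c, hc0, hcσ, hc⟩ := exists_hasMult_of_mem_sup hσ hH (hRle hx)
      exact ⟨c, hcσ, hc0, hc⟩
  · -- `r = 2`, `z = 4`
    have hg : 2 * Nat.gcd 2 2 = 4 := by norm_num
    rw [hg] at hexp
    rcases minimal_or_subfield 4 hR.dvd with ⟨p, e, hmin⟩ | ⟨F₁, hF₁, hz⟩
    · exact ugeo_of_sympOut_minimal hσ hn H R hH 2 4 hR hRle (Or.inr ⟨rfl, rfl⟩) p e hmin
    · apply route F₁ hF₁ hz
      intro x hx
      obtain ⟨c, hc0, -, hcm, hc⟩ := exists_hasMult_pow_eq_one hσ (by omega) hH (hRle hx) (hexp x hx)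
      exact ⟨c, hz c hcm, hc0, hc⟩

end Cfsg.Agent.Lib.Helper70.AschU
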