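/-
helper70, project ASCHU (S5663).  Modules ASCHU-[RESID-U], [SETUP-U], [PARTB-U], [PART2]: Part II(B) and Part II.
-/
import Mathlib
import Cfsg.Prelude.Def_GeometricClasses
import Cfsg.Agent.Lib.Helper99.AschDefs
import Cfsg.Agent.Lib.Helper70.AschU.Defs
import Cfsg.Agent.Lib.Helper70.AschU.Form
import Cfsg.Agent.Lib.Helper70.AschU.PartA
import Cfsg.Agent.Lib.Helper70.AschU.C7U
import Cfsg.Agent.Lib.Helper76.AschUKFoldHExact
import Cfsg.Agent.Lib.Helper49.AschUC5Bil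
import Cfsg.Agent.Lib.Helper11.AschResid
import Cfsg.Agent.Lib.Helper13.AschPerf
import Cfsg.Agent.Lib.Helper42.AschComps
import Cfsg.Agent.Lib.Helper50.AschD2Form

set_option autoImplicit false

namespace Cfsg.Agent.Lib.Helper70.AschU

open Cfsg Cfsg.Geo Cfsg.Agent.Lib.Helper99.Asch Cfsg.Agent.Lib.Helper37.Asch
open scoped MatrixGroups Matrix Kronecker

variable {n : ℕ} {F : Type*} [Field F] [Fintype F] {q : ℕ} {σ : F ≃+* F}

/-- ASCHU-[RESID-U]. -/
theorem residual_or_ugeo (hσ : UCtx σ q) (hn : 3 ≤ n) (H P : Subgroup (GL (Fin n) F)) (hH : H ≤ GU n F q)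
    (hNAI : NAIz H) (hP : PerfMin H P)
    (hsimple : ∀ M : Subgroup (GL (Fin n) F), M ≤ P → Nrm P M → M ≤ scalars (Fin n) F ∨ M = P) :
    UGeo q H ∨ InUnitaryResidualClass H := by
  have hne : Nonempty (Fin n) := ⟨⟨0, by omega⟩⟩
  have hPle : P ≤ H ⊔ scalars (Fin n) F := hP.le.trans le_sup_left
  have habs : ActsAbsolutelyIrreducibly (matrixSet P) := (hNAI P hPle hP.nrm).resolve_left hP.not_le
  have hPGU : P ≤ GU n F q := hP.le.trans hH
  by_cases h1 : ∃ F₀ : Subfield F, F₀ ≠ ⊤ ∧ RealisableOver F₀ (matrixSet P)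
  · obtain ⟨F₀, hF₀, hreal⟩ := h1
    left
    refine ugeo_of_realisable hσ (by omega) H P hH habs hP.nrm F₀ hF₀ hreal ?_
    intro x hx
    exact ⟨1, F₀.one_mem, one_ne_zero, hasMult_one_of_mem_GU (hPGU hx)⟩
  by_cases h2 : ∃ Q : (Fin n → F) → F, IsNondegenerateQuadraticForm Q ∧ FixesQuadForm (matrixSet P) Q
  · obtain ⟨Q, hQ, hfix⟩ := h2
    exact Or.inl (ugeo_of_fixes_bilinear hσ (by omega) H P hH hPGU habs hP.nrm (QuadraticMap.polar Q)
      hQ.polar_bilinear hQ.nondegenerate (fixesForm_polar hfix))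
  by_cases h3 : ∃ f : (Fin n → F) → (Fin n → F) → F, IsSymplecticForm f ∧ FixesForm (matrixSet P) f
  · obtain ⟨f, hf, hfix⟩ := h3
    exact Or.inl (ugeo_of_fixes_bilinear hσ (by omega) H P hH hPGU habs hP.nrm f hf.bilinear
      hf.nondegenerate hfix)
  right
  refine ⟨P, ?_, h2, h3⟩
  exact
    { le := hP.le
      normal := hP.nrm
      perfect := hP.perfect
      simple := Cfsg.Agent.Lib.Helper11.AschResid.isSimpleGroup_quotient hP.not_le hsimple
      nonabelian := Cfsg.Agent.Lib.Helper11.AschResid.not_isMulCommutative_quotient hP.not_le hP.perfect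
      centralizer_scalar := fun h _ hh =>
        Cfsg.Agent.Lib.Helper11.AschResid.mem_scalars_of_commute habs h
          (Cfsg.Agent.Lib.Helper11.AschResid.commute_of_perfect hP.perfect h hh)
      absIrred := habs
      no_subfield := fun F₀ hF₀ hreal => h1 ⟨F₀, hF₀, hreal⟩ }

/-- ASCHU-[SETUP-U] (after helper93's `exists_isMinNrm`). -/
theorem exists_isMinNrm_of_not_le (H : Subgroup (GL (Fin n) F)) (hH : ¬ H ≤ scalars (Fin n) F) :
    ∃ N : Subgroup (GL (Fin n) F), IsMinNrm H N := by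
  classical
  set C : Set (Subgroup (GL (Fin n) F)) :=
    {M | scalars (Fin n) F ≤ M ∧ M ≤ H ⊔ scalars (Fin n) F ∧ Nrm H M ∧ ¬ M ≤ scalars (Fin n) F} with hC
  have hne : C.Nonempty := by
    refine ⟨H ⊔ scalars (Fin n) F, le_sup_right, le_refl _, ?_, ?_⟩
    · intro h hh x hx
      have hh' : h ∈ H ⊔ scalars (Fin n) F := (le_sup_left : H ≤ H ⊔ scalars (Fin n) F) hh
      exact Subgroup.mul_mem _ (Subgroup.mul_mem _ hh' hx) (Subgroup.inv_mem _ hh')
    · intro hle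
      exact hH (le_trans le_sup_left hle)
  obtain ⟨N, hN, hmin⟩ := Set.exists_min_image C (fun M => Nat.card M) (Set.toFinite C) hne
  obtain ⟨h1, h2, h3, h4⟩ := hN
  refine ⟨N, ⟨h1, h4, h2, h3, ?_⟩⟩
  intro M hZM hMN hnrm
  by_cases hMZ : M ≤ scalars (Fin n) F
  · exact Or.inl (le_antisymm hMZ hZM)
  · right
    have hMC : M ∈ C := ⟨hZM, le_trans hMN h2, hnrm, hMZ⟩
    exact Subgroup.eq_of_le_of_card_ge hMN (hmin M hMC)

/-- ASCHU-[D2-U]: the `k`-fold tensor case with `d = 2`. -/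
theorem ugeo_of_kfold_two (hσ : UCtx σ q) (hn : 3 ≤ n) (H P : Subgroup (GL (Fin n) F)) (hH : H ≤ GU n F q)
    (habs : ActsAbsolutelyIrreducibly (matrixSet P)) {k : ℕ}
    (hk : 2 ≤ k) (Q : Fin k → Subgroup (GL (Fin n) F)) (hQ : CompSys H P Q) (hPH : P ≤ H) (hnrm : Nrm H P)
    (idx : Fin n ≃ (Fin k → Fin 2)) (B : GL (Fin n) F)
    (hslot : ∀ i, ∀ x ∈ Q i, ∃ a : GL (Fin 2) F,
        ((B * x * B⁻¹ : GL (Fin n) F) : Matrix (Fin n) (Fin n) F) =
          Matrix.reindex idx.symm idx.symm (slotMatrix i (a : Matrix (Fin 2) (Fin 2) F))) : UGeo q H := by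
  have hPGU : P ≤ GU n F q := hPH.trans hH
  rcases fixes_form_of_slots_two hk P Q hQ.iSup_eq hQ.perfect idx B hslot with ⟨f, hf, hfix⟩ | ⟨Q', hQ', hfix⟩
  · exact ugeo_of_fixes_bilinear hσ (by omega) H P hH hPGU habs hnrm f hf.bilinear hf.nondegenerate hfix
  · exact ugeo_of_fixes_bilinear hσ (by omega) H P hH hPGU habs hnrm (QuadraticMap.polar Q')
      hQ'.polar_bilinear hQ'.nondegenerate (fixesForm_polar hfix)

/-- ASCHU-[PARTB-U]. -/
theorem partIIB_U (hσ : UCtx σ q) (hn : 3 ≤ n) (H N : Subgroup (GL (Fin n) F)) (hH : H ≤ GU n F q) (hNAI : NAIz H)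
    (hN : IsMinNrm H N) (hnab : ¬ CommScalar N) : UGeo q H ∨ InUnitaryResidualClass H := by
  obtain ⟨P, hP⟩ := exists_perfMin H N hN hnab
  obtain ⟨k, Q, hk, hQ⟩ := exists_compSys H P hP
  have hPle : P ≤ H ⊔ scalars (Fin n) F := hP.le.trans le_sup_left
  have habs : ActsAbsolutelyIrreducibly (matrixSet P) := (hNAI P hPle hP.nrm).resolve_left hP.not_le
  by_cases hk1 : k = 1
  · subst hk1
    have hPQ : Q 0 = P := by
      rw [← hQ.iSup_eq]
      exact (iSup_unique (f := Q)).symm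
    apply residual_or_ugeo hσ hn H P hH hNAI hP
    intro M hM hnrm
    have := hQ.simple 0 M (by rw [hPQ]; exact hM) (by rw [hPQ]; exact hnrm)
    rwa [hPQ] at this
  · left
    have hk2 : 2 ≤ k := by omega
    obtain ⟨d, idx, B, hd, hslot, hspan, hHB⟩ := kfold_of_compSys hn H P hk2 Q hQ habs
    by_cases hd2 : d = 2
    · subst hd2
      exact ugeo_of_kfold_two hσ hn H P hH habs hk2 Q hQ hP.le hP.nrm idx B hslot
    · exact ugeo_of_kfold hσ hn H P hH hk2 Q hQ hP.le d (by omega) idx B hslot hspan hHB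

/-- ASCHU-[PART2]. -/
theorem partII_U (hσ : UCtx σ q) (hn : 3 ≤ n) (H : Subgroup (GL (Fin n) F)) (hH : H ≤ GU n F q)
    (hHZ : ¬ H ≤ scalars (Fin n) F) (hNAI : NAIz H) : UGeo q H ∨ InUnitaryResidualClass H := by
  obtain ⟨N, hN⟩ := exists_isMinNrm_of_not_le H hHZ
  by_cases hab : CommScalar N
  · exact Or.inl (partIIA_U hσ hn H N hH hNAI hN hab)
  · exact partIIB_U hσ hn H N hH hNAI hN hab

end Cfsg.Agent.Lib.Helper70.AschU
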