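/-
helper70 (+ helper20), project ASCHU (S5663).  Module ASCHU-[MAIN]: Aschbacher's theorem for the subgroups of `GU_n(q)`, `n ≥ 3`.
Part 0/I = helper20's `partI_unitary` / helper13's `ugeo_of_not_irreducible`; Part II = `partII_U`;
the case `(n, q) = (9, 2)` = `ugeo_nine_two` (helper99's sub-project U92).
-/
import Mathlib
import Cfsg.Prelude.Def_GeometricClasses
import Cfsg.Agent.Lib.Helper99.AschDefs
import Cfsg.Agent.Lib.Helper70.AschU.Defs
import Cfsg.Agent.Lib.Helper70.AschU.PartB
import Cfsg.Agent.Lib.Helper70.AschU.RefineR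
import Cfsg.Agent.Lib.Helper99.U92.Wrap
import Cfsg.Agent.Lib.Helper20.AschU.Part1
import Cfsg.Agent.Lib.Helper13.AschUU1
import Cfsg.Agent.Lib.Helper21.AschUU4
import Cfsg.Agent.Lib.Helper6.AschUStdForm

set_option autoImplicit false

namespace Cfsg.Agent.Lib.Helper70.AschU

open Cfsg Cfsg.Geo Cfsg.Agent.Lib.Helper99.Asch Cfsg.Agent.Lib.Helper20.AschU
open scoped MatrixGroups Matrix Kronecker

variable {n : ℕ} {F : Type*} [Field F] [Fintype F] {q : ℕ}

/-- a group of scalar matrices is reducible in dimension at least 2 -/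
theorem not_le_scalars_of_irreducible (hn : 2 ≤ n) (H : Subgroup (GL (Fin n) F))
    (hirr : ActsIrreducibly (matrixSet H)) : ¬ H ≤ scalars (Fin n) F := by
  intro hle
  set i0 : Fin n := ⟨0, by omega⟩ with hi0
  set i1 : Fin n := ⟨1, by omega⟩ with hi1
  have h01 : i1 ≠ i0 := by
    intro h
    simp [hi0, hi1, Fin.ext_iff] at h
  set W : Submodule F (Fin n → F) := Submodule.span F {(Pi.single i0 1 : Fin n → F)} with hW
  have hinv : ∀ s ∈ matrixSet H, W.map (Matrix.toLin' s) ≤ W := by
    rintro s ⟨x, hx, rfl⟩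
    obtain ⟨c, hc⟩ := (mem_scalars_iff x).1 (hle hx)
    rintro _ ⟨w, hw, rfl⟩
    show Matrix.toLin' (x : Matrix (Fin n) (Fin n) F) w ∈ W
    rw [hc, Matrix.toLin'_apply, Matrix.smul_mulVec, Matrix.one_mulVec]
    exact W.smul_mem _ hw
  rcases hirr W hinv with h | h
  · have : (Pi.single i0 1 : Fin n → F) ∈ W := Submodule.subset_span rfl
    rw [h, Submodule.mem_bot] at this
    have h1 := congrFun this i0
    simp at h1
  · have : (Pi.single i1 1 : Fin n → F) ∈ W := by rw [h]; trivial
    rw [hW, Submodule.mem_span_singleton] at this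
    obtain ⟨a, ha⟩ := this
    have h1 := congrFun ha i1
    simp [h01] at h1

/-- the case left open by Part I: `q = 2` and `H ≤ GU_3(2) ⊗ GU_3(2)` -/
theorem ugeo_of_utensorStd_three_two (hF : Fintype.card F = 2 ^ 2) (H : Subgroup (GL (Fin n) F))
    (hH : H ≤ GU n F 2) (h : UTensorStd 2 H 3 3) : UGeo 2 H := by
  obtain ⟨idx, P, hP, hH'⟩ := h
  have hn9 : n = 9 := by
    have := Fintype.card_congr idx
    simpa using this
  subst hn9
  refine ugeo_nine_two hF H hH (idx.trans (piFinTwoEquiv (fun _ => Fin 3)).symm) P (hermForm 3 F 2)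
    (Cfsg.Agent.Lib.Helper20.AschU.isUnitaryFormPow_hermForm hF 3)
    (isTensorPowerFormStructure_std hF 3 2 _ P hP) ?_
  intro g hg
  obtain ⟨a, b, hab⟩ := hH' g hg
  apply Cfsg.Agent.Lib.Helper21.AschUU4.mem_conj_reindex' (idx.trans (piFinTwoEquiv (fun _ => Fin 3)).symm) P g
  apply Subgroup.subset_closure
  left
  refine ⟨![a, b], ?_⟩
  intro x y
  rw [Cfsg.Agent.Lib.Helper25.AschC4.glReindex_val, hab, Fin.prod_univ_two]
  simp [Matrix.kroneckerMap_apply]

/-- ASCHU-[MAIN]: every subgroup of `GU_n(q)`, `n ≥ 3`, lies in a member of one of the geometric classes or is in the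
residual class. -/
theorem aschbacher_unitary (hF : Fintype.card F = q ^ 2) (hn : 3 ≤ n) (H : Subgroup (GL (Fin n) F))
    (hH : H ≤ GU n F q) : UGeo q H ∨ InUnitaryResidualClass H := by
  obtain ⟨σ, hσ⟩ := exists_uctx hF
  by_cases hirr : ActsIrreducibly (matrixSet H)
  · rcases partI_unitary hF hn H hH hirr with h | ⟨hq, h33⟩ | hNAI
    · exact Or.inl h
    · subst hq
      exact Or.inl (ugeo_of_utensorStd_three_two hF H hH h33)
    · exact partII_U hσ hn H hH (not_le_scalars_of_irreducible (by omega) H hirr) hNAI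
  · exact Or.inl (ugeo_of_not_irreducible hF H hH hirr)

/-- ASCHU-[MAINR]: the same with the refined class predicate (class 6 carries `n = r ^ k`). -/
theorem aschbacher_unitary_R (hF : Fintype.card F = q ^ 2) (hn : 3 ≤ n) (H : Subgroup (GL (Fin n) F))
    (hH : H ≤ GU n F q) : UGeoR q H ∨ InUnitaryResidualClass H :=
  (aschbacher_unitary hF hn H hH).imp (UGeo.ugeoR (by omega)) id

end Cfsg.Agent.Lib.Helper70.AschU
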