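/-
helper70, project ASCHU (S5663).  The refined class predicate comes for free: by helper99's `SympTypeCardGen`
(`|R| = |Z(R)| · n²` for an absolutely irreducible symplectic-type group) the class-6 disjunct of the frozen predicate already
forces `n = r ^ k`.  Hence `UGeo q H → UGeoR q H`.
-/
import Mathlib
import Cfsg.Prelude.Def_GeometricClasses
import Cfsg.Agent.Lib.Helper99.AschDefs
import Cfsg.Agent.Lib.Helper70.AschU.Defs
import Cfsg.Agent.Lib.Helper70.AschU.DefsR
import Cfsg.Agent.Lib.Helper99.SympTypeCardGen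

set_option autoImplicit false

namespace Cfsg.Agent.Lib.Helper70.AschU

open Cfsg Cfsg.Geo Cfsg.Agent.Lib.Helper99.Asch
open scoped MatrixGroups Matrix Kronecker

variable {n : ℕ} {F : Type*} [Field F] [Fintype F] {q : ℕ}

theorem IsC6.isC6R (hn : 0 < n) {M : Subgroup (GL (Fin n) F)} (h : IsC6 n F q M) : IsC6R n F q M := by
  haveI : Nonempty (Fin n) := ⟨⟨0, hn⟩⟩
  obtain ⟨r, R, p, e, k, hR, habs, hsim, hrp, hmin, hcase, hM⟩ := h
  refine ⟨r, R, p, e, k, hR, habs, hsim, hrp, hmin, hcase, ?_, hM⟩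
  rcases hcase with ⟨-, hZ, -, hcard⟩ | ⟨rfl, -, hZ, hcard⟩
  · obtain ⟨m, hm, hkm⟩ := Cfsg.Agent.Lib.Helper99.SympTypeCard.dim_eq_pow_of_isSymplecticTypeGroup_gen r R hR habs
      (1 + 2 * k) 1 hcard (by rw [hZ, pow_one])
    have : m = k := by omega
    rw [← this, ← hm, Fintype.card_fin]
  · obtain ⟨m, hm, hkm⟩ := Cfsg.Agent.Lib.Helper99.SympTypeCard.dim_eq_pow_of_isSymplecticTypeGroup_gen 2 R hR habs
      (2 + 2 * k) 2 hcard (by rw [hZ]; norm_num)
    have : m = k := by omega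
    rw [← this, ← hm, Fintype.card_fin]

theorem InUnitaryClass.inUnitaryClassR (hn : 0 < n) {M : Subgroup (GL (Fin n) F)}
    (h : InUnitaryClass n F q M) : InUnitaryClassR n F q M := by
  rcases inUnitaryClass_cases h with h | h
  · exact Or.inl h
  · exact Or.inr (h.isC6R hn)

theorem UGeo.ugeoR (hn : 0 < n) {H : Subgroup (GL (Fin n) F)} (h : UGeo q H) : UGeoR q H := by
  obtain ⟨M, hM, hle⟩ := h
  exact ⟨M, InUnitaryClass.inUnitaryClassR hn hM, hle⟩

end Cfsg.Agent.Lib.Helper70.AschU
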